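import Cfsg.Agent.H22.Th.Lower.Prog
import Cfsg.Agent.H42.ThCent.Core
import Cfsg.Agent.H42.ThCent.ChecksA
import Cfsg.Agent.H42.ThCent.ChecksB
import Cfsg.Agent.H42.ThCent.ChecksC

/-!
An extraspecial group extended by the alternating group of degree nine inside the image of the
248-dimensional representation, so the order of the image is a multiple of `2 ^ 15`.
-/

set_option autoImplicit false
set_option maxRecDepth 100000

namespace H22Th.Lower

open H42.Tri (fz fz_eq plusP)
open H42.ThCent

attribute [local irreducible] H42.ThCent.letC H42.ThCent.qC H42.ThCent.vC H42.ThCent.mulC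
  H42.Tri.plusP H42.Tri.minusP H42.ThCent.LetData.cI

/-- the image -/
abbrev Img : Type := H93.Th.rho.range

/-- the value of a word in the image -/
noncomputable def imEv (w : List ℕ) : Img := ⟨H93.Th.rho (evG w), ⟨_, rfl⟩⟩

/-- the involution -/
noncomputable def zI : Img := ⟨H93.Th.rho (lt 0), ⟨_, rfl⟩⟩

/-- the frame -/
noncomputable def qI (j : Fin 8) : Img := imEv (CData.qW.getD j.val [])

/-- the lifts -/
noncomputable def vI (i : ℕ) : Img := imEv (CData.vW.getD i [])

/-- an element of the image has a code -/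
def Has (x : Img) (c : ℕ) : Prop := Is (x : H62.Th.Matˣ) c

theorem Has.mul {x y : Img} {a b : ℕ} (hx : Has x a) (hy : Has y b) : Has (x * y) (mulC a b) :=
  Is.mul hx hy

theorem Has.eq {x y : Img} {c : ℕ} (hx : Has x c) (hy : Has y c) : x = y :=
  Subtype.ext (is_unique hx hy)

theorem has_one : Has (1 : Img) LetData.cI := is_one

theorem has_z : Has zI (letC 0) := is_lt 0

theorem has_q (j : Fin 8) : Has (qI j) (qC j.val) := by
  show Is (H93.Th.rho (evG _)) _
  fin_cases j
  · exact qW0 ▸ is_ev _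
  · exact qW1 ▸ is_ev _
  · exact qW2 ▸ is_ev _
  · exact qW3 ▸ is_ev _
  · exact qW4 ▸ is_ev _
  · exact qW5 ▸ is_ev _
  · exact qW6 ▸ is_ev _
  · exact qW7 ▸ is_ev _

theorem has_v {i : ℕ} (hi : i < 7) : Has (vI i) (vC i) := by
  show Is (H93.Th.rho (evG _)) _
  interval_cases i
  · exact vW0 ▸ is_ev _
  · exact vW1 ▸ is_ev _
  · exact vW2 ▸ is_ev _
  · exact vW3 ▸ is_ev _
  · exact vW4 ▸ is_ev _
  · exact vW5 ▸ is_ev _
  · exact vW6 ▸ is_ev _

theorem beq_elim {a b : ℕ} (h : Nat.beq a b = true) : a = b := Nat.eq_of_beq_eq_true h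

theorem frame : Frame zI qI := by
  obtain ⟨h1, h2, -⟩ := frame_sq
  refine ⟨(has_z.mul has_z).eq ((beq_elim h2).symm ▸ has_one), ?_, ?_, ?_, ?_, ?_⟩
  · intro e
    have e' : ((zI : Img) : H62.Th.Matˣ) = ((1 : Img) : H62.Th.Matˣ) := congrArg Subtype.val e
    exact is_ne has_z has_one (i := CData.entA.1) (k := CData.entA.2) (by decide) (by decide) a_ne e'
  · intro i
    have h := List.all_eq_true.1 h1 i.val (List.mem_range.2 i.isLt)
    rw [Bool.and_eq_true] at h
    exact (has_z.mul (has_q i)).eq ((beq_elim h.2).symm ▸ (has_q i).mul has_z)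
  · intro i
    have h := List.all_eq_true.1 h1 i.val (List.mem_range.2 i.isLt)
    rw [Bool.and_eq_true] at h
    have hv : ∀ k : Fin 8, CData.sqN.getD k.val 0 = 0 ∨ CData.sqN.getD k.val 0 = 256 := by decide
    have hh := (has_q i).mul (has_q i)
    rw [beq_elim h.1] at hh
    rcases hv i with e | e
    · rw [e, show nfC 0 = LetData.cI from rfl] at hh
      exact Or.inl (hh.eq has_one)
    · rw [e, show nfC 256 = letC 0 from rfl] at hh
      exact Or.inr (hh.eq has_z)
  · intro i j hij hne
    have h := List.all_eq_true.1 (List.all_eq_true.1 frame_com i.val (List.mem_range.2 i.isLt))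
      j.val (List.mem_range.2 j.isLt)
    simp only [Bool.or_eq_true, Bool.not_eq_true'] at h
    rcases h with (h | h) | h
    · exact absurd (show Nat.blt i.val j.val = true by simpa [Nat.blt_eq] using hij) (by simp [h])
    · exact absurd (beq_elim h) hne
    · exact ((has_q i).mul (has_q j)).eq ((beq_elim h).symm ▸ (has_q j).mul (has_q i))
  · intro i j hi hj
    have h := beq_elim (List.all_eq_true.1 frame_pair i.val (List.mem_range.2 hi))
    rw [← hj] at h
    exact ((has_q i).mul (has_q j)).eq (h.symm ▸ has_z.mul ((has_q j).mul (has_q i)))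

theorem nf_mem (m : ℕ) : ∃ x ∈ frame.span, Has x (nfC m) := by
  have key : ∀ L : List ℕ, (∀ j ∈ L, j < 8) → ∃ x ∈ frame.span,
      Has x (List.rec (motive := fun _ => ℕ) (bif m.testBit 8 then letC 0 else LetData.cI)
        (fun j _ ih => bif m.testBit j then mulC (qC j) ih else ih) L) := by
    intro L
    induction L with
    | nil =>
      intro _
      cases hb : m.testBit 8
      · exact ⟨1, one_mem _, has_one⟩
      · exact ⟨zI, Subgroup.subset_closure (Set.mem_insert _ _), has_z⟩
    | cons j L ih =>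
      intro hL
      obtain ⟨x, hx, hc⟩ := ih fun k hk => hL k (List.mem_cons_of_mem _ hk)
      show ∃ x ∈ frame.span, Has x (bif m.testBit j then mulC (qC j) _ else _)
      cases hb : m.testBit j
      · exact ⟨x, hx, hc⟩
      · exact ⟨qI ⟨j, hL j List.mem_cons_self⟩ * x, mul_mem (Subgroup.subset_closure
          (Set.mem_insert_of_mem _ ⟨_, rfl⟩)) hx, (has_q _).mul hc⟩
  exact key [0, 1, 2, 3, 4, 5, 6, 7] (by decide)

theorem has_vw : ∀ w : List ℕ, (∀ i ∈ w, i < 7) → Has (vW vI w) (vwC w)
  | [], _ => has_one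
  | i :: w, h =>
    (has_v (h i List.mem_cons_self)).mul (has_vw w fun k hk => h k (List.mem_cons_of_mem _ hk))

theorem mem_of_code {x : Img} {c m : ℕ} (hx : Has x c) (h : Nat.beq c (nfC m) = true) :
    x ∈ frame.span := by
  obtain ⟨y, hy, hc⟩ := nf_mem m
  rw [beq_elim h] at hx
  rwa [hx.eq hc]

theorem lifts : Lifts frame vI := by
  refine ⟨fun i hi => ?_, fun i hi j => ?_, ?_, fun i h1 h2 => ?_, fun i hi => ?_,
    fun i j h1 h2 => ?_, ?_⟩
  · have h := beq_elim (List.all_eq_true.1 frame_sq.2.2 i (List.mem_range.2 hi))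
    exact ((has_v hi).mul has_z).eq (h.symm ▸ has_z.mul (has_v hi))
  · have key : ∀ {i j : ℕ}, (hi : i < 7) → (hj : j < 8) → ∀ {m : ℕ},
        Nat.beq (mulC (vC i) (qC j)) (mulC (nfC m) (vC i)) = true →
        vI i * qI ⟨j, hj⟩ * (vI i)⁻¹ ∈ frame.span := by
      intro i j hi hj m h
      obtain ⟨y, hy, hc⟩ := nf_mem m
      have e : vI i * qI ⟨j, hj⟩ = y * vI i :=
        ((has_v hi).mul (has_q _)).eq ((beq_elim h).symm ▸ hc.mul (has_v hi))
      rwa [e, mul_inv_cancel_right]
    have hm : ∀ k : Fin 8, k.val ∈ ([0, 1, 2, 3] : List ℕ) ∨ k.val ∈ ([4, 5, 6, 7] : List ℕ) := by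
      decide
    rcases hm j with hm | hm <;> interval_cases i
    exacts [key hi j.2 (List.all_eq_true.1 conj0a _ hm), key hi j.2 (List.all_eq_true.1 conj1a _ hm),
      key hi j.2 (List.all_eq_true.1 conj2a _ hm), key hi j.2 (List.all_eq_true.1 conj3a _ hm),
      key hi j.2 (List.all_eq_true.1 conj4a _ hm), key hi j.2 (List.all_eq_true.1 conj5a _ hm),
      key hi j.2 (List.all_eq_true.1 conj6a _ hm), key hi j.2 (List.all_eq_true.1 conj0b _ hm),
      key hi j.2 (List.all_eq_true.1 conj1b _ hm), key hi j.2 (List.all_eq_true.1 conj2b _ hm),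
      key hi j.2 (List.all_eq_true.1 conj3b _ hm), key hi j.2 (List.all_eq_true.1 conj4b _ hm),
      key hi j.2 (List.all_eq_true.1 conj5b _ hm), key hi j.2 (List.all_eq_true.1 conj6b _ hm)]
  · refine mem_of_code ?_ rel_cube
    rw [pow_succ', pow_two]
    exact (has_v (by norm_num)).mul ((has_v (by norm_num)).mul (has_v (by norm_num)))
  · obtain ⟨i, rfl⟩ : ∃ k, i = k + 1 := ⟨i - 1, by omega⟩
    refine mem_of_code ?_ (List.all_eq_true.1 rel_sq i (List.mem_range.2 (by omega)))
    rw [pow_two]
    exact (has_v h2).mul (has_v h2)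
  · have hw := has_vw [i, i + 1, i, i + 1, i, i + 1] (by intro k hk; simp at hk; omega)
    have e : (vI i * vI (i + 1)) ^ 3 = vW vI [i, i + 1, i, i + 1, i, i + 1] := by
      simp [vW, pow_succ, mul_assoc]
    rw [e]
    have hm : i ∈ ([0, 1, 2] : List ℕ) ∨ i ∈ ([3, 4, 5] : List ℕ) := by
      simp only [List.mem_cons, List.not_mem_nil, or_false]; omega
    rcases hm with hm | hm
    · exact mem_of_code hw (List.all_eq_true.1 rel_braid0 i hm)
    · exact mem_of_code hw (List.all_eq_true.1 rel_braid1 i hm)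
  · have hall : ∀ i < 7, ∀ j < 7, i + 1 < j → ((CData.farV.drop 0).take 5 ++
        (CData.farV.drop 5).take 5 ++ (CData.farV.drop 10).take 5).any
          (fun t => t.1 == i && t.2.1 == j) = true := by decide
    obtain ⟨t, ht, hij⟩ := List.any_eq_true.1 (hall i (by omega) j h2 h1)
    rw [Bool.and_eq_true, beq_iff_eq, beq_iff_eq] at hij
    obtain ⟨rfl, rfl⟩ := hij
    have hw := has_vw [t.1, t.2.1, t.1, t.2.1] (by intro k hk; simp at hk; omega)
    have e : (vI t.1 * vI t.2.1) ^ 2 = vW vI [t.1, t.2.1, t.1, t.2.1] := by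
      simp [vW, pow_succ, mul_assoc]
    rw [e]
    simp only [List.mem_append] at ht
    rcases ht with (ht | ht) | ht
    · exact mem_of_code hw (List.all_eq_true.1 rel_far0 t ht)
    · exact mem_of_code hw (List.all_eq_true.1 rel_far1 t ht)
    · exact mem_of_code hw (List.all_eq_true.1 rel_far2 t ht)
  · intro hmem
    have hp : ∀ n, Has (vI 0 ^ 2 ^ n) (Nat.rec (motive := fun _ => ℕ) (vC 0)
        (fun _ ih => fz ih fun c => mulC c c) n) := by
      intro n
      induction n with
      | zero => rw [pow_zero, pow_one]; exact has_v (by norm_num)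
      | succ n ih =>
        show Has _ (fz _ fun c => mulC c c)
        rw [fz_eq, pow_succ, pow_mul, pow_two]
        exact ih.mul ih
    have h9 : (vI 0 ^ 2 ^ 9 : Img) = 1 := by
      have h := pow_card_eq_one' (x := (⟨vI 0, hmem⟩ : frame.span))
      rw [frame.extraspecial.2] at h
      have h' := congrArg Subtype.val h
      rwa [SubmonoidClass.coe_pow, OneMemClass.coe_one] at h'
    have hc := hp 9
    generalize vI 0 ^ 2 ^ 9 = y at hc h9
    subst h9
    have hne := v0pow_ne
    unfold v0pow at hne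
    exact is_ne hc has_one (i := CData.entV.1) (k := CData.entV.2) (by decide) (by decide) hne rfl

theorem centraliser_dvd : 92897280 ∣ Nat.card H93.Th.rho.range :=
  card_C0 lifts ▸ Subgroup.card_subgroup_dvd_card _

theorem two_dvd : 32768 ∣ Nat.card H93.Th.rho.range :=
  (by norm_num : (32768 : ℕ) ∣ 92897280).trans centraliser_dvd

end H22Th.Lower
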