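import Cfsg.Agent.H22.Th.Lower.Primes
import Cfsg.Agent.H22.Th.Lower.Two
import Cfsg.Agent.H93.Th.ThreePart
import Cfsg.Agent.H93.Th.Twist

/-!
The order of the image of the 248-dimensional representation of the presented Thompson group is
a multiple of `90745943887872000`.
-/

set_option autoImplicit false
set_option maxRecDepth 100000

namespace H22Th.Lower

theorem model_dvd : 634023936 ∣ Nat.card H93.Th.rho.range := by
  rw [← H22Th.card_P]
  exact Subgroup.card_dvd_of_injective (H93.Th.rho.rangeRestrict.comp H22Th.iota) fun p q h =>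
    H93.Th.rho_iota_injective H93.Th.rho H93.Th.rho_of (congrArg Subtype.val h)

theorem lcm_step {a b c n : ℕ} (ha : a ∣ n) (hb : b ∣ n) (h : Nat.lcm a b = c) : c ∣ n :=
  h ▸ Nat.lcm_dvd ha hb

theorem order_dvd : 90745943887872000 ∣ Nat.card H93.Th.rho.range := by
  have h1 : 5072191488 ∣ Nat.card H93.Th.rho.range := lcm_step model_dvd two_dvd (by decide +kernel)
  have h2 : 1232542531584 ∣ Nat.card H93.Th.rho.range :=
    lcm_step h1 H93.Th.three_part (by decide +kernel)
  have h3 : 154067816448000 ∣ Nat.card H93.Th.rho.range :=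
    lcm_step h2 five_cube_dvd (by decide +kernel)
  have h4 : 2927288512512000 ∣ Nat.card H93.Th.rho.range :=
    lcm_step h3 nineteen_dvd (by decide +kernel)
  exact lcm_step h4 thirtyone_dvd (by decide +kernel)

end H22Th.Lower
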