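/-! Programs for elements of orders 19 and 31 and for an extraspecial group of order 125. -/

set_option autoImplicit false

namespace H22Th.Lower

/-- an element of order 19 and its twentieth power -/
def p19 : List (Nat × Nat) :=
  [(7, 5), (27, 4), (28, 3), (29, 1), (30, 30), (31, 31), (32, 30), (33, 33), (34, 34)]

/-- an element of order 31 and its 32nd power -/
def p31 : List (Nat × Nat) :=
  [(10, 5), (27, 4), (28, 3), (29, 1), (30, 0), (31, 31), (32, 32), (33, 33), (34, 34), (35, 35)]

/-- three elements of order five, the first commuting with the others -/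
def p5 : List (Nat × Nat) := [(16, 17), (27, 0), (25, 26), (29, 24), (30, 25), (31, 20), (32, 22),
  (28, 33), (1, 7), (35, 8), (36, 3), (37, 9), (6, 3), (39, 5), (40, 10), (41, 1), (42, 0),
  (43, 38), (34, 44), (45, 45), (46, 45), (46, 46), (38, 47), (48, 42), (20, 21), (51, 22),
  (24, 23), (53, 21), (54, 54), (55, 55), (56, 54), (57, 57), (58, 54), (54, 52), (60, 59),
  (13, 16), (62, 17), (63, 63), (64, 63), (65, 61), (66, 63), (50, 67), (68, 49), (12, 13),
  (70, 15), (26, 24), (71, 72), (73, 73), (74, 73), (73, 69), (76, 75), (69, 69), (78, 69),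
  (79, 79), (77, 77), (81, 77), (82, 82), (52, 52), (84, 52), (85, 85), (69, 77), (77, 69),
  (88, 84), (52, 69), (69, 52), (52, 77), (77, 52)]

end H22Th.Lower
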