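import Cfsg.Agent.H22.Th.Lower.Prog
import Cfsg.Agent.H22.Th.Lower.Data

/-! Kernel evaluation of the programs. -/

set_option autoImplicit false
set_option maxRecDepth 100000
set_option Elab.async false

namespace H22Th.Lower

theorem ok5 : okP p5 [(80, 69), (83, 77), (86, 52), (87, 89), (90, 91), (92, 93)] [(52, 11, 0, 3), (69, 11, 0, 0), (87, 88, 0, 0)] = true := by decide +kernel

end H22Th.Lower
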