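import Cfsg.Agent.H22.Th.Lower.ChkSmall
import Cfsg.Agent.H22.Th.Lower.ChkFive

/-!
The primes 19 and 31 and the cube of 5 divide the order of the image of the 248-dimensional
representation of the presented Thompson group.
-/

set_option autoImplicit false
set_option maxRecDepth 100000

namespace H22Th.Lower

attribute [local irreducible] el

theorem orderOf_prime_of {G : Type*} [Group G] {p : ℕ} [Fact p.Prime] {x : G}
    (h : x ^ (p + 1) = x) (h1 : x ≠ 1) : orderOf x = p := by
  rw [pow_succ, mul_eq_right] at h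
  exact orderOf_eq_prime h h1

/-- two noncommuting elements of order p whose commutator is central and of order p -/
theorem cube_dvd {G : Type*} [Group G] [Finite G] {p : ℕ} [Fact p.Prime] {f g z : G}
    (hz : orderOf z = p) (hf : orderOf f = p) (hg : g ^ p = 1) (hfg : f * g = g * f * z)
    (hzf : z * f = f * z) (hzg : z * g = g * z) (hne : f * g ≠ g * f) :
    p ^ 3 ∣ Nat.card G := by
  classical
  have hp : p.Prime := Fact.out
  let S : Subgroup G := Subgroup.closure {f, g}
  have hzS : z ∈ S := by
    have e : z = (g * f)⁻¹ * (f * g) := by rw [hfg, inv_mul_cancel_left]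
    rw [e]
    have a : f ∈ S := Subgroup.subset_closure (by simp)
    have b : g ∈ S := Subgroup.subset_closure (by simp)
    exact mul_mem (inv_mem (mul_mem b a)) (mul_mem a b)
  let f' : S := ⟨f, Subgroup.subset_closure (by simp)⟩
  let g' : S := ⟨g, Subgroup.subset_closure (by simp)⟩
  let z' : S := ⟨z, hzS⟩
  have hgen : Subgroup.closure ({f', g'} : Set S) = ⊤ := by
    refine Subgroup.map_injective S.subtype_injective ?_
    rw [MonoidHom.map_closure, Set.image_pair, ← MonoidHom.range_eq_map, Subgroup.range_subtype]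
    rfl
  have hzc : ∀ x : S, x * z' = z' * x := by
    intro x
    have hx : x ∈ Subgroup.centralizer ({z'} : Set S) := by
      refine (Subgroup.closure_le _).2 ?_ (hgen ▸ Subgroup.mem_top x)
      rintro y (rfl | rfl)
      · exact Subgroup.mem_centralizer_singleton_iff.2 (Subtype.ext hzf.symm)
      · exact Subgroup.mem_centralizer_singleton_iff.2 (Subtype.ext hzg.symm)
    exact Subgroup.mem_centralizer_singleton_iff.1 hx
  haveI : (Subgroup.zpowers z').Normal := ⟨fun n hn x => by
    obtain ⟨i, rfl⟩ := Subgroup.mem_zpowers_iff.1 hn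
    rw [((show Commute x z' from hzc x).zpow_right i).eq, mul_inv_cancel_right]
    exact zpow_mem (Subgroup.mem_zpowers z') i⟩
  let π := QuotientGroup.mk' (Subgroup.zpowers z')
  have hcomm : π f' * π g' = π g' * π f' := by
    have hz1 : π z' = 1 := (QuotientGroup.eq_one_iff z').2 (Subgroup.mem_zpowers z')
    rw [← map_mul, ← map_mul, show f' * g' = g' * f' * z' from Subtype.ext hfg, map_mul, hz1,
      mul_one]
  have htop : Subgroup.closure ({π f', π g'} : Set (S ⧸ Subgroup.zpowers z')) = ⊤ := by
    rw [← Set.image_pair, ← MonoidHom.map_closure, hgen,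
      Subgroup.map_top_of_surjective _ (QuotientGroup.mk'_surjective _)]
  have hf1 : π f' ^ p = 1 := by
    rw [← map_pow, show f' ^ p = 1 from Subtype.ext (show f ^ p = 1 from hf ▸ pow_orderOf_eq_one f),
      map_one]
  have hg1 : π g' ^ p = 1 := by
    rw [← map_pow, show g' ^ p = 1 from Subtype.ext hg, map_one]
  have hsurj : ∀ q, ∃ a b : Fin p, π f' ^ (a : ℕ) * π g' ^ (b : ℕ) = q := by
    intro q
    have hq : q ∈ Subgroup.zpowers (π f') ⊔ Subgroup.zpowers (π g') := by
      refine (Subgroup.closure_le _).2 ?_ (htop ▸ Subgroup.mem_top q)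
      rintro w (rfl | rfl)
      · exact Subgroup.mem_sup_left (Subgroup.mem_zpowers _)
      · exact Subgroup.mem_sup_right (Subgroup.mem_zpowers _)
    have hn : Subgroup.zpowers (π f') ≤
        Subgroup.normalizer ((Subgroup.zpowers (π g') : Subgroup _) : Set (S ⧸ Subgroup.zpowers z')) := by
      refine Subgroup.zpowers_le.2 (Subgroup.centralizer_le_normalizer _ ?_)
      refine Subgroup.mem_centralizer_iff.2 fun x hx => ?_
      obtain ⟨i, rfl⟩ := Subgroup.mem_zpowers_iff.1 hx
      exact ((show Commute (π f') (π g') from hcomm).zpow_right i).eq.symm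
    rw [← SetLike.mem_coe, Subgroup.coe_mul_of_left_le_normalizer_right _ _ hn] at hq
    obtain ⟨x, hx, y, hy, rfl⟩ := hq
    obtain ⟨a, rfl⟩ := (isOfFinOrder_of_finite (π f')).mem_powers_iff_mem_zpowers.2 hx
    obtain ⟨b, rfl⟩ := (isOfFinOrder_of_finite (π g')).mem_powers_iff_mem_zpowers.2 hy
    exact ⟨⟨a % p, Nat.mod_lt _ hp.pos⟩, ⟨b % p, Nat.mod_lt _ hp.pos⟩, by
      simp only
      rw [← pow_eq_pow_mod a hf1, ← pow_eq_pow_mod b hg1]⟩
  have hquot : Nat.card (S ⧸ Subgroup.zpowers z') ≤ p * p := by
    refine (Nat.card_le_card_of_surjective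
      (fun x : Fin p × Fin p => π f' ^ (x.1 : ℕ) * π g' ^ (x.2 : ℕ)) fun q => ?_).trans (by simp)
    obtain ⟨a, b, h⟩ := hsurj q
    exact ⟨(a, b), h⟩
  have hz' : orderOf z' = p := by rw [← Subgroup.orderOf_coe]; exact hz
  have hcard : Nat.card S = Nat.card (S ⧸ Subgroup.zpowers z') * p := by
    rw [Subgroup.card_eq_card_quotient_mul_card_subgroup (Subgroup.zpowers z'), Nat.card_zpowers, hz']
  have hP : IsPGroup p S := by
    intro x
    refine ⟨2, ?_⟩
    obtain ⟨a, b, h⟩ := hsurj (π x)
    have h1 : π (x ^ p) = 1 := by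
      rw [map_pow, ← h, ((show Commute (π f') (π g') from hcomm).pow_pow _ _).mul_pow, ← pow_mul,
        ← pow_mul, mul_comm (a : ℕ), mul_comm (b : ℕ), pow_mul, pow_mul, hf1, hg1, one_pow, one_pow,
        mul_one]
    obtain ⟨i, hi⟩ := Subgroup.mem_zpowers_iff.1 ((QuotientGroup.eq_one_iff _).1 h1)
    rw [pow_two, pow_mul, ← hi, ← zpow_natCast, ← zpow_mul, mul_comm, zpow_mul, zpow_natCast,
      ← hz', pow_orderOf_eq_one, one_zpow]
  obtain ⟨n, hn⟩ := IsPGroup.iff_card.1 hP
  suffices h3 : 3 ≤ n from ((pow_dvd_pow p h3).trans (dvd_of_eq hn.symm)).trans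
    (Subgroup.card_subgroup_dvd_card S)
  by_contra h
  refine hne (congrArg Subtype.val (show f' * g' = g' * f' from ?_))
  have hle : n ≤ 2 := by omega
  interval_cases n
  · have : Subsingleton S := (Nat.card_eq_one_iff_unique.1 (by rw [hn, pow_zero])).1
    exact Subsingleton.elim _ _
  · haveI : IsCyclic S := isCyclic_of_prime_card (p := p) (by rw [hn, pow_one])
    exact (IsCyclic.isMulCommutative.is_comm.comm f' g')
  · exact (IsPGroup.isMulCommutative_of_card_eq_prime_sq hn).is_comm.comm f' g'

theorem nineteen_dvd : 19 ∣ Nat.card H93.Th.rho.range := by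
  haveI : Fact (Nat.Prime 19) := ⟨by norm_num⟩
  obtain ⟨he, hn⟩ := okP_spec ok19
  have e := he _ (List.mem_singleton.2 rfl)
  have e35 : el p19 35 = el p19 34 * el p19 34 := el_mul (p := p19) (k := 8) (q := (34, 34)) rfl (by norm_num) (by norm_num)
  have e34 : el p19 34 = el p19 33 * el p19 33 := el_mul (p := p19) (k := 7) (q := (33, 33)) rfl (by norm_num) (by norm_num)
  have e33 : el p19 33 = el p19 32 * el p19 30 := el_mul (p := p19) (k := 6) (q := (32, 30)) rfl (by norm_num) (by norm_num)
  have e32 : el p19 32 = el p19 31 * el p19 31 := el_mul (p := p19) (k := 5) (q := (31, 31)) rfl (by norm_num) (by norm_num)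
  have e31 : el p19 31 = el p19 30 * el p19 30 := el_mul (p := p19) (k := 4) (q := (30, 30)) rfl (by norm_num) (by norm_num)
  have h1 : el p19 30 ≠ el p19 11 := hn _ (List.mem_singleton.2 rfl)
  have h11 : el p19 11 = 1 := one_of_eleven _
  have hp : el p19 30 ^ (19 + 1) = el p19 30 := by
    conv_rhs => rw [← e]
    simp only [e35, e34, e33, e32, e31]
    simp only [pow_succ, pow_zero, one_mul, mul_assoc]
  rw [← orderOf_prime_of hp (h11 ▸ h1)]
  exact orderOf_dvd_natCard _

theorem thirtyone_dvd : 31 ∣ Nat.card H93.Th.rho.range := by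
  haveI : Fact (Nat.Prime 31) := ⟨by norm_num⟩
  obtain ⟨he, hn⟩ := okP_spec ok31
  have e := he _ (List.mem_singleton.2 rfl)
  have e36 : el p31 36 = el p31 35 * el p31 35 := el_mul (p := p31) (k := 9) (q := (35, 35)) rfl (by norm_num) (by norm_num)
  have e35 : el p31 35 = el p31 34 * el p31 34 := el_mul (p := p31) (k := 8) (q := (34, 34)) rfl (by norm_num) (by norm_num)
  have e34 : el p31 34 = el p31 33 * el p31 33 := el_mul (p := p31) (k := 7) (q := (33, 33)) rfl (by norm_num) (by norm_num)
  have e33 : el p31 33 = el p31 32 * el p31 32 := el_mul (p := p31) (k := 6) (q := (32, 32)) rfl (by norm_num) (by norm_num)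
  have e32 : el p31 32 = el p31 31 * el p31 31 := el_mul (p := p31) (k := 5) (q := (31, 31)) rfl (by norm_num) (by norm_num)
  have h1 : el p31 31 ≠ el p31 11 := hn _ (List.mem_singleton.2 rfl)
  have h11 : el p31 11 = 1 := one_of_eleven _
  have hp : el p31 31 ^ (31 + 1) = el p31 31 := by
    conv_rhs => rw [← e]
    simp only [e36, e35, e34, e33, e32]
    simp only [pow_succ, pow_zero, one_mul, mul_assoc]
  rw [← orderOf_prime_of hp (h11 ▸ h1)]
  exact orderOf_dvd_natCard _

theorem five_cube_dvd : 125 ∣ Nat.card H93.Th.rho.range := by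
  haveI : Fact (Nat.Prime 5) := ⟨by norm_num⟩
  obtain ⟨he, hn⟩ := okP_spec ok5
  have a80 : el p5 80 = el p5 79 * el p5 79 := el_mul (p := p5) (k := 53) (q := (79, 79)) rfl (by norm_num) (by norm_num)
  have a79 : el p5 79 = el p5 78 * el p5 69 := el_mul (p := p5) (k := 52) (q := (78, 69)) rfl (by norm_num) (by norm_num)
  have a78 : el p5 78 = el p5 69 * el p5 69 := el_mul (p := p5) (k := 51) (q := (69, 69)) rfl (by norm_num) (by norm_num)
  have a83 : el p5 83 = el p5 82 * el p5 82 := el_mul (p := p5) (k := 56) (q := (82, 82)) rfl (by norm_num) (by norm_num)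
  have a82 : el p5 82 = el p5 81 * el p5 77 := el_mul (p := p5) (k := 55) (q := (81, 77)) rfl (by norm_num) (by norm_num)
  have a81 : el p5 81 = el p5 77 * el p5 77 := el_mul (p := p5) (k := 54) (q := (77, 77)) rfl (by norm_num) (by norm_num)
  have a86 : el p5 86 = el p5 85 * el p5 85 := el_mul (p := p5) (k := 59) (q := (85, 85)) rfl (by norm_num) (by norm_num)
  have a85 : el p5 85 = el p5 84 * el p5 52 := el_mul (p := p5) (k := 58) (q := (84, 52)) rfl (by norm_num) (by norm_num)
  have a84 : el p5 84 = el p5 52 * el p5 52 := el_mul (p := p5) (k := 57) (q := (52, 52)) rfl (by norm_num) (by norm_num)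
  have a87 : el p5 87 = el p5 69 * el p5 77 := el_mul (p := p5) (k := 60) (q := (69, 77)) rfl (by norm_num) (by norm_num)
  have a88 : el p5 88 = el p5 77 * el p5 69 := el_mul (p := p5) (k := 61) (q := (77, 69)) rfl (by norm_num) (by norm_num)
  have a89 : el p5 89 = el p5 88 * el p5 84 := el_mul (p := p5) (k := 62) (q := (88, 84)) rfl (by norm_num) (by norm_num)
  have a90 : el p5 90 = el p5 52 * el p5 69 := el_mul (p := p5) (k := 63) (q := (52, 69)) rfl (by norm_num) (by norm_num)
  have a91 : el p5 91 = el p5 69 * el p5 52 := el_mul (p := p5) (k := 64) (q := (69, 52)) rfl (by norm_num) (by norm_num)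
  have a92 : el p5 92 = el p5 52 * el p5 77 := el_mul (p := p5) (k := 65) (q := (52, 77)) rfl (by norm_num) (by norm_num)
  have a93 : el p5 93 = el p5 77 * el p5 52 := el_mul (p := p5) (k := 66) (q := (77, 52)) rfl (by norm_num) (by norm_num)
  have h11 : el p5 11 = 1 := one_of_eleven _
  have f6 := he (80, 69) (by simp)
  have g6 := he (83, 77) (by simp)
  have x6 := he (86, 52) (by simp)
  have hfg := he (87, 89) (by simp)
  have hxf := he (90, 91) (by simp)
  have hxg := he (92, 93) (by simp)
  have x1 := hn (52, 11, 0, 3) (by simp)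
  have f1 := hn (69, 11, 0, 0) (by simp)
  have hne := hn (87, 88, 0, 0) (by simp)
  simp only [a80, a79, a78, a83, a82, a81, a86, a85, a84, a87, a88, a89, a90, a91, a92, a93,
    h11] at f6 g6 x6 hfg hxf hxg x1 f1 hne
  generalize el p5 52 = x at *
  generalize el p5 69 = f at *
  generalize el p5 77 = g at *
  have pw : ∀ w : H93.Th.rho.range, w ^ 6 = w * w * w * (w * w * w) := fun w => by
    simp only [pow_succ, pow_zero, one_mul, mul_assoc]
  have hfo : orderOf f = 5 := orderOf_prime_of ((pw f).trans f6) f1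
  have hxo : orderOf x = 5 := orderOf_prime_of ((pw x).trans x6) x1
  have hg5 : g ^ 5 = 1 := by
    have := (pw g).trans g6
    rwa [pow_succ, mul_eq_right] at this
  have hzo : orderOf (x * x) = 5 := by
    rw [← pow_two, Nat.Coprime.orderOf_pow (by rw [hxo]; decide), hxo]
  exact cube_dvd (p := 5) hzo hfo hg5 hfg
    ((show Commute x f from hxf).mul_left (show Commute x f from hxf)).eq
    ((show Commute x g from hxg).mul_left (show Commute x g from hxg)).eq hne

end H22Th.Lower
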