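import Mathlib
import Cfsg.Agent.H93.Th.Rho
import Cfsg.Agent.H42.ThCent.Codes

/-!
Straight-line programs on coded elements of the presented Thompson group and what their checks say
about the image of the 248-dimensional representation.
-/

set_option autoImplicit false
set_option maxRecDepth 100000

namespace H22Th.Lower

open Cfsg
open H42.Tri (fz fz_eq plusP minusP matT val2 bits_of_val)
open H42.ThCent (letC qC vC mulC lt gn evG evC dj_letC matOf_eq Is is_one Is.mul Is.pow powB powS
  powT powU)

theorem is_gen {i : ℕ} (hi : i < 8) :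
    Is (H93.Th.rho (H96.ThSimple.gen (gn i))) (letC i) := by
  refine ⟨dj_letC i, ?_⟩
  have e : H62.Th.idx (gn i) = i := by interval_cases i <;> rfl
  have h := H93.Th.rho_of (gn i)
  rw [e, matOf_eq hi] at h
  exact h

theorem is_lt (i : ℕ) : Is (H93.Th.rho (lt i)) (letC i) := by
  have key : ∀ g n k, g < 8 → powB g n k = true →
      Is (H93.Th.rho (H96.ThSimple.gen (gn g) ^ n)) (letC k) := fun g n k hg h => by
    rw [map_pow, ← Nat.eq_of_beq_eq_true h]
    exact (is_gen hg).pow n
  unfold lt
  split_ifs with h h1 h2 h3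
  · exact is_gen h
  · subst h1; exact key 5 6 8 (by norm_num) powS
  · subst h2; exact key 6 2 9 (by norm_num) powT
  · subst h3; exact key 7 3 10 (by norm_num) powU
  · obtain ⟨k, rfl⟩ : ∃ k, i = k + 11 := ⟨i - 11, by omega⟩
    rw [map_one]; exact is_one

theorem is_ev (w : List ℕ) : Is (H93.Th.rho (evG w)) (evC w) := by
  induction w with
  | nil => rw [H42.ThCent.evG_nil, map_one]; exact is_one
  | cons i w ih =>
    show Is _ (fz (evC w) fun c => mulC (letC i) c)
    rw [fz_eq, H42.ThCent.evG_cons, map_mul]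
    exact (is_lt i).mul ih

/-- units with one code are equal -/
theorem is_unique {u v : H62.Th.Matˣ} {c : ℕ} (hu : Is u c) (hv : Is v c) : u = v :=
  Units.ext (hu.2.trans hv.2.symm)

/-- units with codes differing in an entry differ -/
theorem is_ne {u v : H62.Th.Matˣ} {c d i k : ℕ} (hu : Is u c) (hv : Is v d) (hi : i < 248)
    (hk : k < 248)
    (hne : ((plusP 248 c).testBit (248 * i + k) == (plusP 248 d).testBit (248 * i + k)) = false) :
    u ≠ v := by
  rintro rfl
  have e : matT 248 c = matT 248 d := hu.2.symm.trans hv.2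
  have e2 : val2 248 (plusP 248 c) (minusP 248 c) i k = val2 248 (plusP 248 d) (minusP 248 d) i k :=
    congrFun (congrFun e ⟨i, hi⟩) ⟨k, hk⟩
  have := (bits_of_val hu.1 hv.1 e2).1
  simp only [H26.BitCode.cbit] at this
  rw [this, beq_self_eq_true] at hne
  exact Bool.noConfusion hne

/-- the letters, the frame and the lifts -/
noncomputable def start : List ℕ :=
  (List.range 12).map letC ++ (List.range 8).map qC ++ (List.range 7).map vC

/-- append the listed products -/
noncomputable def runP (p : List (ℕ × ℕ)) : List ℕ → List ℕ :=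
  List.rec (motive := fun _ => List ℕ → List ℕ) (fun l => l)
    (fun q _ ih l => fz (mulC (l.getD q.1 (letC 11)) (l.getD q.2 (letC 11))) fun c => ih (l ++ [c])) p

/-- two entries agree -/
noncomputable def eqB (l : List ℕ) (q : ℕ × ℕ) : Bool :=
  Nat.beq (l.getD q.1 (letC 11)) (l.getD q.2 (letC 11))

/-- two entries differ at a position -/
noncomputable def neB (l : List ℕ) (q : ℕ × ℕ × ℕ × ℕ) : Bool :=
  Nat.blt q.2.2.1 248 && Nat.blt q.2.2.2 248 &&
    !((plusP 248 (l.getD q.1 (letC 11))).testBit (248 * q.2.2.1 + q.2.2.2) ==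
      (plusP 248 (l.getD q.2.1 (letC 11))).testBit (248 * q.2.2.1 + q.2.2.2))

/-- some entries of the result agree in pairs, others differ in pairs -/
noncomputable def okP (p eqs : List (ℕ × ℕ)) (nes : List (ℕ × ℕ × ℕ × ℕ)) : Bool :=
  (fun l : List ℕ => eqs.all (eqB l) && nes.all (neB l)) (runP p start)

attribute [local irreducible] letC qC vC mulC plusP minusP

/-- the elements named by a program -/
noncomputable def runU (p : List (ℕ × ℕ)) : List H62.Th.Matˣ → List H62.Th.Matˣ :=
  List.rec (motive := fun _ => List H62.Th.Matˣ → List H62.Th.Matˣ) (fun l => l)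
    (fun q _ ih l => ih (l ++ [l.getD q.1 1 * l.getD q.2 1])) p

/-- the units of the letters, the frame and the lifts -/
noncomputable def startU : List H62.Th.Matˣ :=
  (List.range 12).map (fun i => H93.Th.rho (lt i)) ++
    (List.range 8).map (fun j => H93.Th.rho (evG (H42.ThCent.CData.qW.getD j []))) ++
      (List.range 7).map (fun j => H93.Th.rho (evG (H42.ThCent.CData.vW.getD j [])))

/-- the codes stand for units in the image -/
def Good (l : List ℕ) (U : List H62.Th.Matˣ) : Prop :=
  l.length = U.length ∧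
    ∀ k, Is (U.getD k 1) (l.getD k (letC 11)) ∧ U.getD k 1 ∈ H93.Th.rho.range

theorem is_cI : Is (1 : H62.Th.Matˣ) (letC 11) := by
  have h := is_lt 11
  rwa [show lt 11 = 1 by simp [lt], map_one] at h

theorem good_map {n : ℕ} {f : ℕ → ℕ} {g : ℕ → H62.Th.Matˣ}
    (h : ∀ i < n, Is (g i) (f i) ∧ g i ∈ H93.Th.rho.range) :
    Good ((List.range n).map f) ((List.range n).map g) := by
  refine ⟨by simp, fun k => ?_⟩
  by_cases hk : k < n
  · rw [List.getD_eq_getElem _ _ (by simpa using hk), List.getD_eq_getElem _ _ (by simpa using hk),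
      List.getElem_map, List.getElem_map, List.getElem_range]
    exact h k hk
  · rw [List.getD_eq_default _ _ (by simpa using Nat.le_of_not_lt hk),
      List.getD_eq_default _ _ (by simpa using Nat.le_of_not_lt hk)]
    exact ⟨is_cI, one_mem _⟩

theorem good_append {l l' : List ℕ} {U U' : List H62.Th.Matˣ} (h : Good l U) (h' : Good l' U') :
    Good (l ++ l') (U ++ U') := by
  refine ⟨by rw [List.length_append, List.length_append, h.1, h'.1], fun k => ?_⟩
  by_cases hk : k < l.length
  · rw [List.getD_append _ _ _ _ hk, List.getD_append _ _ _ _ (h.1 ▸ hk)]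
    exact h.2 k
  · rw [List.getD_append_right _ _ _ _ (Nat.le_of_not_lt hk),
      List.getD_append_right _ _ _ _ (h.1 ▸ Nat.le_of_not_lt hk), ← h.1]
    exact h'.2 _

theorem good_start : Good start startU := by
  refine good_append (good_append (good_map fun i _ => ⟨is_lt i, ⟨_, rfl⟩⟩)
    (good_map fun i hi => ⟨?_, ⟨_, rfl⟩⟩)) (good_map fun i hi => ⟨?_, ⟨_, rfl⟩⟩)
  · interval_cases i
    · exact H42.ThCent.qW0 ▸ is_ev _
    · exact H42.ThCent.qW1 ▸ is_ev _
    · exact H42.ThCent.qW2 ▸ is_ev _
    · exact H42.ThCent.qW3 ▸ is_ev _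
    · exact H42.ThCent.qW4 ▸ is_ev _
    · exact H42.ThCent.qW5 ▸ is_ev _
    · exact H42.ThCent.qW6 ▸ is_ev _
    · exact H42.ThCent.qW7 ▸ is_ev _
  · interval_cases i
    · exact H42.ThCent.vW0 ▸ is_ev _
    · exact H42.ThCent.vW1 ▸ is_ev _
    · exact H42.ThCent.vW2 ▸ is_ev _
    · exact H42.ThCent.vW3 ▸ is_ev _
    · exact H42.ThCent.vW4 ▸ is_ev _
    · exact H42.ThCent.vW5 ▸ is_ev _
    · exact H42.ThCent.vW6 ▸ is_ev _

theorem good_run : ∀ (p : List (ℕ × ℕ)) {l : List ℕ} {U : List H62.Th.Matˣ}, Good l U →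
    Good (runP p l) (runU p U)
  | [], _, _, h => h
  | q :: p, l, U, h => by
    show Good (fz (mulC (l.getD q.1 (letC 11)) (l.getD q.2 (letC 11))) fun c => runP p (l ++ [c]))
      (runU p (U ++ [U.getD q.1 1 * U.getD q.2 1]))
    rw [fz_eq]
    refine good_run p (good_append h ⟨rfl, fun k => ?_⟩)
    rcases k with _ | k
    · rw [List.getD_cons_zero, List.getD_cons_zero]
      exact ⟨(h.2 q.1).1.mul (h.2 q.2).1, mul_mem (h.2 q.1).2 (h.2 q.2).2⟩
    · rw [List.getD_cons_succ, List.getD_cons_succ, List.getD_nil, List.getD_nil]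
      exact ⟨is_cI, one_mem _⟩

/-- an element named by a program -/
noncomputable def el (p : List (ℕ × ℕ)) (k : ℕ) : H93.Th.rho.range :=
  ⟨(runU p startU).getD k 1, ((good_run p good_start).2 k).2⟩

theorem okP_spec {p eqs : List (ℕ × ℕ)} {nes : List (ℕ × ℕ × ℕ × ℕ)} (h : okP p eqs nes = true) :
    (∀ q ∈ eqs, el p q.1 = el p q.2) ∧ ∀ q ∈ nes, el p q.1 ≠ el p q.2.1 := by
  simp only [okP, eqB, neB, Bool.and_eq_true, List.all_eq_true, Bool.not_eq_true', Nat.blt_eq] at h
  have G := (good_run p good_start).2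
  refine ⟨fun q hq => ?_, fun q hq e => ?_⟩
  · have e := Nat.eq_of_beq_eq_true (h.1 q hq)
    exact Subtype.ext (is_unique (G q.1).1 (e ▸ (G q.2).1))
  · obtain ⟨⟨hi, hk⟩, hne⟩ := h.2 q hq
    exact is_ne (G q.1).1 (G q.2.1).1 hi hk hne (congrArg Subtype.val e)

theorem el_keep : ∀ (p : List (ℕ × ℕ)) (U : List H62.Th.Matˣ) (j : ℕ), j < U.length →
    (runU p U).getD j 1 = U.getD j 1
  | [], _, _, _ => rfl
  | a :: p, U, j, hj => by
    show (runU p (U ++ [U.getD a.1 1 * U.getD a.2 1])).getD j 1 = _
    rw [el_keep p _ _ (by rw [List.length_append]; omega), List.getD_append _ _ _ _ hj]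

theorem one_of_eleven (p : List (ℕ × ℕ)) : el p 11 = 1 := by
  refine Subtype.ext ?_
  show (runU p startU).getD 11 1 = 1
  rw [el_keep p startU 11 (by simp [startU])]
  simp [startU, lt]

theorem el_mul {p : List (ℕ × ℕ)} : ∀ {k : ℕ} {q : ℕ × ℕ}, p[k]? = some q →
    q.1 < 27 + k → q.2 < 27 + k → el p (27 + k) = el p q.1 * el p q.2 := by
  intro k q hk h1 h2
  have main : ∀ (p : List (ℕ × ℕ)) (U : List H62.Th.Matˣ) (k : ℕ), p[k]? = some q →
      q.1 < U.length + k → q.2 < U.length + k →
      (runU p U).getD (U.length + k) 1 = (runU p U).getD q.1 1 * (runU p U).getD q.2 1 := by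
    intro p
    induction p with
    | nil => intro U k hk; simp at hk
    | cons a p ih =>
      intro U k hk h1 h2
      show (runU p (U ++ [U.getD a.1 1 * U.getD a.2 1])).getD (U.length + k) 1 =
        (runU p (U ++ [U.getD a.1 1 * U.getD a.2 1])).getD q.1 1 *
          (runU p (U ++ [U.getD a.1 1 * U.getD a.2 1])).getD q.2 1
      rcases k with _ | k
      · rw [List.getElem?_cons_zero, Option.some.injEq] at hk
        subst hk
        rw [el_keep _ _ _ (by simp), el_keep _ _ _ (by simp; omega), el_keep _ _ _ (by simp; omega),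
          List.getD_append_right _ _ _ _ (by omega), List.getD_append _ _ _ _ (by omega),
          List.getD_append _ _ _ _ (by omega)]
        simp
      · rw [List.getElem?_cons_succ] at hk
        have := ih (U ++ [U.getD a.1 1 * U.getD a.2 1]) k hk (by simp; omega) (by simp; omega)
        rw [List.length_append, List.length_singleton] at this
        rw [show U.length + (k + 1) = U.length + 1 + k by omega]
        exact this
  have hl : startU.length = 27 := by simp [startU]
  refine Subtype.ext ?_
  show (runU p startU).getD (27 + k) 1 = _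
  rw [← hl, main p startU k hk (hl.symm ▸ h1) (hl.symm ▸ h2)]
  rfl

end H22Th.Lower
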